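import Mathlib
import Groth.Prelude.Def_AlgGrp
import Groth.Agent.Lib.Helper2.Lang.Torsor

/-!
# Lang's theorem for pseudo-torsors with a point over the algebraic closure (helper2)
-/

set_option autoImplicit false
set_option backward.isDefEq.respectTransparency.types false
set_option synthInstance.maxHeartbeats 400000
set_option maxHeartbeats 4000000
set_option linter.style.haveILetI false
set_option linter.unusedSectionVars false
set_option linter.unusedVariables false
set_option linter.unusedSimpArgs false

universe u
open CategoryTheory CategoryTheory.Limits AlgebraicGeometry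
open MonoidalCategory CartesianMonoidalCategory MonObj GrpObj

namespace Groth.Agent.Helper2.Lang

theorem torsor_trivial_of_pt (k : Type u) [Field k] [Finite k]
    (G : Over (Spec (CommRingCat.of k))) [GrpObj G] [IsAffine G.left] [Smooth G.hom]
    [ConnectedSpace G.left]
    (X : Over (Spec (CommRingCat.of k)))
    (a : AlgGrp.Action G X)
    (hX : IsIso (CartesianMonoidalCategory.lift a.act (CartesianMonoidalCategory.snd G X)))
    (x : pt k (AlgebraicClosure k) ⟶ X) :
    Nonempty (𝟙_ (Over (Spec (CommRingCat.of k))) ⟶ X) := by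
  let K := AlgebraicClosure k
  obtain ⟨F, hF⟩ := exists_frob G
  obtain ⟨φ, hφ⟩ := exists_frob (pt k K)
  let e := lift a.act (snd G X)
  let t : pt k K ⟶ G ⊗ X := lift (φ ≫ x) x ≫ inv e
  have ht : t ≫ e = lift (φ ≫ x) x := by simp [t]
  have ht1 : t ≫ a.act = φ ≫ x := by
    have := congrArg (fun s => s ≫ fst X X) ht
    simpa [e] using this
  have ht2 : t ≫ snd G X = x := by
    have := congrArg (fun s => s ≫ snd X X) ht
    simpa [e] using this
  let g := t ≫ fst G X
  have hg : lift g x ≫ a.act = φ ≫ x := by
    have : t = lift g x := by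
      apply CartesianMonoidalCategory.hom_ext <;> simp [g, ht2]
    rw [← this, ht1]
  obtain ⟨y, hy⟩ := exists_lang_point F hF (g⁻¹)
  have hφh : φ ≫ y⁻¹ = y⁻¹ ≫ F := frob_natural φ F hφ hF y⁻¹
  have hkey : (φ ≫ y⁻¹) * g = y⁻¹ := by
    rw [hφh, inv_comp_F F hF]
    have hg' : g = (y ≫ F) * y⁻¹ := by
      have := congrArg (fun s => s⁻¹) hy
      simp only [_root_.mul_inv_rev, _root_.inv_inv] at this
      exact this.symm
    rw [hg']
    group
  have hfixed : φ ≫ (lift y⁻¹ x ≫ a.act) = lift y⁻¹ x ≫ a.act := by
    rw [← Category.assoc, comp_lift, ← hg,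
      ← Groth.Agent.Helper4.Act.mul_smul' a.act a.mul_act, hkey]
  exact exists_kpoint_of_fixed X φ hφ (lift y⁻¹ x ≫ a.act) hfixed

end Groth.Agent.Helper2.Lang
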